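import Mathlib

/-!
A finite linear space of invertible matrices over the field with two elements (and zero) that contains
the identity and is closed under `(a, b) ↦ a * b * a` is commutative.
-/

set_option autoImplicit false
set_option linter.style.haveILetI false

namespace Cfsg.Lib.JordanDivision

open Matrix

variable {n : ℕ}

/-- A Jordan division subspace. -/
structure IsJordanDivision (S : Submodule (ZMod 2) (Matrix (Fin n) (Fin n) (ZMod 2))) : Prop where
  one_mem : (1 : Matrix (Fin n) (Fin n) (ZMod 2)) ∈ S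
  isUnit : ∀ a ∈ S, a ≠ 0 → IsUnit a
  u_mem : ∀ a ∈ S, ∀ b ∈ S, a * b * a ∈ S

variable {S : Submodule (ZMod 2) (Matrix (Fin n) (Fin n) (ZMod 2))}

theorem IsJordanDivision.sq_mem (hS : IsJordanDivision S) {a : Matrix (Fin n) (Fin n) (ZMod 2)} (ha : a ∈ S) : a * a ∈ S := by
  simpa using hS.u_mem a ha 1 hS.one_mem

theorem IsJordanDivision.pow_mem (hS : IsJordanDivision S) {a : Matrix (Fin n) (Fin n) (ZMod 2)} (ha : a ∈ S) :
    ∀ k : ℕ, a ^ k ∈ S
  | 0 => by simpa using hS.one_mem
  | 1 => by simpa using ha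
  | (k + 2) => by
      have h := hS.u_mem a ha (a ^ k) (hS.pow_mem ha k)
      rwa [show a ^ (k + 2) = a * a ^ k * a from by rw [pow_succ, pow_succ']]

/-- Three-term linearisation. -/
theorem IsJordanDivision.triple_mem (hS : IsJordanDivision S) {a b c : Matrix (Fin n) (Fin n) (ZMod 2)} (ha : a ∈ S)
    (hb : b ∈ S) (hc : c ∈ S) : a * b * c + c * b * a ∈ S := by
  have h := S.sub_mem (S.sub_mem (hS.u_mem (a + c) (S.add_mem ha hc) b hb) (hS.u_mem a ha b hb))
    (hS.u_mem c hc b hb)
  convert h using 1
  noncomm_ring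

/-- A maximal commutative subspace is a field generated by one element that is its own centraliser. -/
theorem exists_generator (hS : IsJordanDivision S) :
    ∃ a ∈ S, ∀ b ∈ S, a * b = b * a → b ∈ Algebra.adjoin (ZMod 2) ({a} : Set (Matrix (Fin n) (Fin n) (ZMod 2))) := by
  classical
  rcases Nat.eq_zero_or_pos n with hn | hn
  · subst hn
    exact ⟨1, hS.one_mem, fun b _ _ => by rw [Subsingleton.elim b 1]; exact one_mem _⟩
  haveI : Nonempty (Fin n) := ⟨⟨0, hn⟩⟩
  let P : Set (Submodule (ZMod 2) (Matrix (Fin n) (Fin n) (ZMod 2))) :=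
    {K | 1 ∈ K ∧ K ≤ S ∧ ∀ x ∈ K, ∀ y ∈ K, x * y = y * x}
  have hP : (Submodule.span (ZMod 2) {(1 : Matrix (Fin n) (Fin n) (ZMod 2))}) ∈ P := by
    refine ⟨Submodule.mem_span_singleton_self 1, (Submodule.span_singleton_le_iff_mem _ _).2 hS.one_mem,
      fun x hx y hy => ?_⟩
    obtain ⟨c, rfl⟩ := Submodule.mem_span_singleton.1 hx
    rw [smul_mul_assoc, one_mul, mul_smul_comm, mul_one]
  obtain ⟨K, hK⟩ := P.toFinite.exists_maximal ⟨_, hP⟩
  obtain ⟨h1, hKS, hcomm⟩ := hK.1
  have hmax : ∀ b ∈ S, (∀ x ∈ K, x * b = b * x) → b ∈ K := by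
    intro b hb hbc
    have hmem : K ⊔ Submodule.span (ZMod 2) {b} ∈ P := by
      refine ⟨Submodule.mem_sup_left h1, sup_le hKS ((Submodule.span_singleton_le_iff_mem _ _).2 hb),
        fun x hx y hy => ?_⟩
      obtain ⟨x1, hx1, u, hu, rfl⟩ := Submodule.mem_sup.1 hx
      obtain ⟨y1, hy1, v, hv, rfl⟩ := Submodule.mem_sup.1 hy
      obtain ⟨c, rfl⟩ := Submodule.mem_span_singleton.1 hu
      obtain ⟨d, rfl⟩ := Submodule.mem_span_singleton.1 hv
      simp only [add_mul, mul_add, smul_mul_assoc, mul_smul_comm, smul_add, hcomm x1 hx1 y1 hy1,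
        hbc x1 hx1, hbc y1 hy1, smul_comm c d]
      abel
    exact hK.2 hmem le_sup_left (Submodule.mem_sup_right (Submodule.mem_span_singleton_self b))
  have hsq : ∀ x ∈ K, x * x ∈ K := fun x hx => hmax _ (hS.sq_mem (hKS hx)) fun y hy => by
    rw [← mul_assoc, hcomm y hy x hx, mul_assoc, hcomm y hy x hx, ← mul_assoc]
  have h2 : ∀ x : Matrix (Fin n) (Fin n) (ZMod 2), x + x = 0 := fun x => by
    ext i j
    exact CharTwo.add_self_eq_zero (x i j)
  have hsurj : ∀ x ∈ K, ∃ y ∈ K, y * y = x := by
    let f : ↥K → ↥K := fun x => ⟨x.1 * x.1, hsq x.1 x.2⟩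
    have hinj : Function.Injective f := by
      intro x y hxy
      have hxy' : x.1 * x.1 = y.1 * y.1 := congrArg Subtype.val hxy
      refine Subtype.ext ?_
      by_contra hne
      have hne' : x.1 + y.1 ≠ 0 := fun h => hne (by
        calc x.1 = x.1 + (y.1 + y.1) := by rw [h2, add_zero]
          _ = y.1 := by rw [← add_assoc, h, zero_add])
      have hu := hS.isUnit _ (S.add_mem (hKS x.2) (hKS y.2)) hne'
      refine (hu.mul hu).ne_zero ?_
      rw [add_mul, mul_add, mul_add, hcomm y.1 y.2 x.1 x.2, hxy']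
      rw [add_assoc, ← add_assoc (x.1 * y.1), h2, zero_add, h2]
    intro x hx
    obtain ⟨y, hy⟩ := (Finite.injective_iff_surjective.1 hinj) ⟨x, hx⟩
    exact ⟨y.1, y.2, congrArg Subtype.val hy⟩
  have hmul : ∀ x ∈ K, ∀ y ∈ K, x * y ∈ K := by
    intro x hx y hy
    obtain ⟨z, hz, rfl⟩ := hsurj x hx
    have he : z * y * z = z * z * y := by rw [mul_assoc, hcomm y hy z hz, ← mul_assoc]
    refine hmax _ (he ▸ hS.u_mem z (hKS hz) y (hKS hy)) fun w hw => ?_
    rw [← mul_assoc, hcomm w hw _ (hsq z hz), mul_assoc, hcomm w hw y hy, ← mul_assoc]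
  let A : Subalgebra (ZMod 2) (Matrix (Fin n) (Fin n) (ZMod 2)) := K.toSubalgebra h1 fun x y hx hy => hmul x hx y hy
  letI : CommRing ↥A :=
    { (inferInstance : Ring ↥A) with mul_comm := fun x y => Subtype.ext (hcomm x.1 x.2 y.1 y.2) }
  haveI : Nontrivial ↥A := ⟨0, 1, fun h => zero_ne_one (congrArg Subtype.val h)⟩
  haveI : NoZeroDivisors ↥A := ⟨fun {x y} h => by
    by_cases hx : x = 0
    · exact Or.inl hx
    · refine Or.inr (Subtype.ext ?_)
      have hu := hS.isUnit x.1 (hKS x.2) fun e => hx (Subtype.ext e)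
      exact hu.mul_right_eq_zero.1 (congrArg Subtype.val h)⟩
  haveI : IsDomain ↥A := NoZeroDivisors.to_isDomain _
  obtain ⟨g, hg⟩ := IsCyclic.exists_generator (α := (↥A)ˣ)
  refine ⟨(g : ↥A).1, hKS (g : ↥A).2, fun b hb hab => ?_⟩
  have hKadj : ∀ x ∈ K, x ∈ Algebra.adjoin (ZMod 2) ({(g : ↥A).1} : Set (Matrix (Fin n) (Fin n) (ZMod 2))) := by
    intro x hx
    by_cases hx0 : x = 0
    · rw [hx0]; exact zero_mem _
    obtain ⟨u, hu⟩ := (Finite.isField_of_domain (R := ↥A)).mul_inv_cancel
      (a := ⟨x, hx⟩) fun e => hx0 (congrArg Subtype.val e)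
    obtain ⟨k, hk⟩ := (mem_powers_iff_mem_zpowers).2 (hg (Units.mkOfMulEqOne _ _ hu))
    have hk' : ((g : ↥A) ^ k).1 = x := congrArg (fun u : (↥A)ˣ => (u : ↥A).1) hk
    rw [← hk', SubmonoidClass.coe_pow]
    exact pow_mem (Algebra.subset_adjoin (Set.mem_singleton _)) k
  refine hKadj b (hmax b hb fun x hx => ?_)
  have hc : Algebra.adjoin (ZMod 2) ({(g : ↥A).1} : Set (Matrix (Fin n) (Fin n) (ZMod 2))) ≤
      Subalgebra.centralizer (ZMod 2) ({b} : Set (Matrix (Fin n) (Fin n) (ZMod 2))) :=
    Algebra.adjoin_le fun y hy => by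
      rw [Set.mem_singleton_iff] at hy
      subst hy
      exact Subalgebra.mem_centralizer_iff (ZMod 2) |>.2 fun z hz => by
        rw [Set.mem_singleton_iff] at hz; subst hz; exact hab.symm
  exact ((Subalgebra.mem_centralizer_iff (ZMod 2)).1 (hc (hKadj x hx)) b (Set.mem_singleton b)).symm

section Extension

variable (R : Type*) [CommRing R] [Algebra (ZMod 2) R]

/-- Extension of scalars of matrices. -/
def liftMat : Matrix (Fin n) (Fin n) (ZMod 2) →ₐ[ZMod 2] Matrix (Fin n) (Fin n) R :=
  (Algebra.ofId (ZMod 2) R).mapMatrix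

/-- The `R`-span of a set of matrices over the prime field. -/
def ext (S : Submodule (ZMod 2) (Matrix (Fin n) (Fin n) (ZMod 2))) :
    Submodule R (Matrix (Fin n) (Fin n) R) :=
  Submodule.span R (liftMat R '' S)

variable {R}

theorem lift_mem {s : Matrix (Fin n) (Fin n) (ZMod 2)} (hs : s ∈ S) : liftMat R s ∈ ext R S :=
  Submodule.subset_span ⟨s, hs, rfl⟩

theorem ext_triple (hS : IsJordanDivision S) {x y z : Matrix (Fin n) (Fin n) R} (hx : x ∈ ext R S)
    (hy : y ∈ ext R S) (hz : z ∈ ext R S) : x * y * z + z * y * x ∈ ext R S := by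
  induction hx using Submodule.span_induction with
  | zero => simp
  | add a b _ _ iha ihb =>
    convert add_mem iha ihb using 1
    noncomm_ring
  | smul c a _ iha =>
    convert (ext R S).smul_mem c iha using 1
    simp only [smul_mul_assoc, mul_smul_comm, smul_add]
  | mem a ha =>
    obtain ⟨a, ha, rfl⟩ := ha
    induction hy using Submodule.span_induction with
    | zero => simp
    | add b b' _ _ ihb ihb' =>
      convert add_mem ihb ihb' using 1
      noncomm_ring
    | smul c b _ ihb =>
      convert (ext R S).smul_mem c ihb using 1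
      simp only [smul_mul_assoc, mul_smul_comm, smul_add]
    | mem b hb =>
      obtain ⟨b, hb, rfl⟩ := hb
      induction hz using Submodule.span_induction with
      | zero => simp
      | add b b' _ _ ihb ihb' =>
        convert add_mem ihb ihb' using 1
        noncomm_ring
      | smul c b _ ihb =>
        convert (ext R S).smul_mem c ihb using 1
        simp only [smul_mul_assoc, mul_smul_comm, smul_add]
      | mem d hd =>
        obtain ⟨d, hd, rfl⟩ := hd
        rw [← map_mul, ← map_mul, ← map_mul, ← map_mul, ← map_add]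
        exact lift_mem (hS.triple_mem ha hb hd)

theorem ext_u_mem (hS : IsJordanDivision S) {x y : Matrix (Fin n) (Fin n) R} (hx : x ∈ ext R S)
    (hy : y ∈ ext R S) : x * y * x ∈ ext R S := by
  induction hx using Submodule.span_induction with
  | zero => simp
  | add a b ha hb iha ihb =>
    convert add_mem (add_mem iha ihb) (ext_triple hS ha hy hb) using 1
    noncomm_ring
  | smul c a _ iha =>
    convert (ext R S).smul_mem (c * c) iha using 1
    simp only [smul_mul_assoc, mul_smul_comm, smul_smul]
  | mem a ha =>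
    obtain ⟨a, ha, rfl⟩ := ha
    induction hy using Submodule.span_induction with
    | zero => simp
    | add b b' _ _ ihb ihb' =>
      convert add_mem ihb ihb' using 1
      noncomm_ring
    | smul c b _ ihb =>
      convert (ext R S).smul_mem c ihb using 1
      simp only [smul_mul_assoc, mul_smul_comm]
    | mem b hb =>
      obtain ⟨b, hb, rfl⟩ := hb
      rw [← map_mul, ← map_mul]
      exact lift_mem (hS.u_mem a ha b hb)

theorem ext_commute {a : Matrix (Fin n) (Fin n) (ZMod 2)} {x : Matrix (Fin n) (Fin n) R}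
    (hx : x ∈ ext R S) (hc : liftMat R a * x = x * liftMat R a) :
    x ∈ ext R (S ⊓ Submodule.comap (LinearMap.mulLeft (ZMod 2) a - LinearMap.mulRight (ZMod 2) a) ⊥) := by
  classical
  have h0 := hx
  obtain ⟨f, hf⟩ := (Finsupp.mem_span_image_iff_linearCombination R).1 (show x ∈ Submodule.span R
    (liftMat R '' (S : Set (Matrix (Fin n) (Fin n) (ZMod 2)))) from h0)
  obtain ⟨hfS, hfx⟩ := hf
  set B := Module.Free.chooseBasis (ZMod 2) R with hB
  set T : Finset _ := f.support.biUnion fun s => (B.repr (f s)).support with hT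
  set y : _ → Matrix (Fin n) (Fin n) (ZMod 2) := fun j => ∑ s ∈ f.support, B.repr (f s) j • s with hy
  have hdec : x = ∑ j ∈ T, B j • liftMat R (y j) := by
    rw [← hfx, Finsupp.linearCombination_apply, Finsupp.sum]
    simp only [hy, map_sum, map_smul, Finset.smul_sum]
    rw [Finset.sum_comm]
    refine Finset.sum_congr rfl fun s hs => ?_
    have hsum : f s = ∑ j ∈ T, B.repr (f s) j • B j := by
      conv_lhs => rw [← B.linearCombination_repr (f s)]
      rw [Finsupp.linearCombination_apply, Finsupp.sum_of_support_subset _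
        (Finset.subset_biUnion_of_mem (fun s => (B.repr (f s)).support) hs)]
      exact fun j _ => zero_smul _ _
    conv_lhs => rw [hsum, Finset.sum_smul]
    refine Finset.sum_congr rfl fun j _ => ?_
    rw [smul_assoc, smul_comm]
  have hzero : ∀ j ∈ T, a * y j - y j * a = 0 := by
    have h : ∑ j ∈ T, B j • liftMat R (a * y j - y j * a) = 0 := by
      simp only [map_sub, map_mul, smul_sub, Finset.sum_sub_distrib]
      rw [← Finset.sum_congr rfl fun j _ => mul_smul_comm (B j) (liftMat R a) (liftMat R (y j)),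
        ← Finset.sum_congr rfl fun j _ => smul_mul_assoc (B j) (liftMat R (y j)) (liftMat R a),
        ← Finset.mul_sum, ← Finset.sum_mul, ← hdec, hc, sub_self]
    intro j hj
    ext k l
    have hkl : ∑ j ∈ T, (a * y j - y j * a) k l • B j = 0 := by
      have := congrFun (congrFun h k) l
      simp only [Matrix.sum_apply, Matrix.smul_apply, liftMat, AlgHom.mapMatrix_apply, Matrix.map_apply,
        Matrix.zero_apply, smul_eq_mul, Algebra.ofId_apply] at this
      simpa [Algebra.smul_def, mul_comm] using this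
    exact linearIndependent_iff'.1 B.linearIndependent T _ hkl j hj
  rw [hdec]
  refine Submodule.sum_mem _ fun j hj => Submodule.smul_mem _ _ (lift_mem (Submodule.mem_inf.2 ⟨?_, ?_⟩))
  · exact S.sum_mem fun s hs => S.smul_mem _ (hfS (Finset.mem_coe.2 hs))
  · simpa using hzero j hj

end Extension

section Pivots

variable {R : Type*} [CommRing R] [IsDomain R] [Algebra (ZMod 2) R]

theorem det_one_add {l : Matrix (Fin n) (Fin n) R} (hl : l * l = 0) : (1 + l).det = 1 := by
  haveI : CharP R 2 := charP_of_injective_algebraMap (algebraMap (ZMod 2) R).injective 2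
  have h2 : l + l = 0 := by
    ext i j
    exact CharTwo.add_self_eq_zero (l i j)
  have h : (1 + l) * (1 + l) = 1 := by
    rw [add_mul, one_mul, mul_add, mul_one, hl, add_zero, add_assoc, h2, add_zero]
  have hd := congrArg Matrix.det h
  rw [Matrix.det_mul, Matrix.det_one] at hd
  rcases mul_self_eq_one_iff.1 hd with h' | h'
  · exact h'
  · rw [h', CharTwo.neg_eq]

theorem pivots {m : ℕ} {L : Type*} [Field L] (ev : R →+* L) (hloc : ∀ c, ev c ≠ 0 → IsUnit c)
    (J : Submodule R (Matrix (Fin n) (Fin n) R)) (hU : ∀ x ∈ J, ∀ y ∈ J, x * y * x ∈ J)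
    (e : Fin m → Matrix (Fin n) (Fin n) R) (heJ : ∀ i, e i ∈ J) (hee : ∀ i, e i * e i = e i)
    (hne : ∀ i j, i ≠ j → e i * e j = 0) (hsum : ∑ i, e i = 1) (hev : ∀ i, (e i).map ev ≠ 0)
    (hscal : ∀ x ∈ J, ∀ i, ∃ c : R, e i * x * e i = c • e i)
    {X : Matrix (Fin n) (Fin n) R} (hXJ : X ∈ J) (hX1 : X.map ev = 1) :
    ∃ c : Fin m → R, (∀ i, ev (c i) = 1) ∧ X.det = (∑ i, c i • e i).det := by
  classical
  suffices h : ∀ k, k ≤ m → ∃ (Y : Matrix (Fin n) (Fin n) R) (c : Fin m → R), Y ∈ J ∧
      (∀ i : Fin m, i.val < k → e i * Y = 0 ∧ Y * e i = 0 ∧ ev (c i) = 1) ∧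
      Y.map ev = ∑ i ∈ Finset.univ.filter (fun i : Fin m => k ≤ i.val), (e i).map ev ∧
      X.det = (Y + ∑ i ∈ Finset.univ.filter (fun i : Fin m => i.val < k), c i • e i).det by
    obtain ⟨Y, c, -, hY, -, hd⟩ := h m le_rfl
    have hY0 : Y = 0 := by
      rw [← one_mul Y, ← hsum, Finset.sum_mul]
      exact Finset.sum_eq_zero fun i _ => (hY i i.2).1
    refine ⟨c, fun i => (hY i i.2).2.2, ?_⟩
    rw [hd, hY0, zero_add]
    congr 1
    exact Finset.sum_congr (by ext i; simp) fun _ _ => rfl
  intro k
  induction k with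
  | zero =>
    intro _
    refine ⟨X, fun _ => 0, hXJ, fun i hi => absurd hi (Nat.not_lt_zero _), ?_, ?_⟩
    · rw [hX1, ← Matrix.map_one ev (map_zero ev) (map_one ev), ← hsum]
      rw [Finset.filter_true_of_mem (fun i _ => Nat.zero_le _)]
      exact map_sum ev.mapMatrix e Finset.univ
    · simp
  | succ k ih =>
    intro hk
    obtain ⟨Y, c, hYJ, hY, hYev, hd⟩ := ih (by omega)
    set j : Fin m := ⟨k, hk⟩ with hj
    obtain ⟨d, hd'⟩ := hscal Y hYJ j
    have hd1 : ev d = 1 := by
      have h := congrArg (fun M : Matrix (Fin n) (Fin n) R => ev.mapMatrix M) hd'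
      simp only [map_mul, RingHom.mapMatrix_apply] at h
      rw [hYev, Finset.mul_sum, Finset.sum_eq_single_of_mem j (by simp [hj])
        (fun i _ hi => by rw [← Matrix.map_mul, hne j i hi.symm, Matrix.map_zero _ (map_zero ev)]),
        ← Matrix.map_mul, hee, ← Matrix.map_mul, hee, Matrix.map_smul' ev d (e j) (map_mul ev)] at h
      by_contra hne1
      refine hev j ?_
      have h' : (1 - ev d) • (e j).map ev = 0 := by rw [sub_smul, one_smul, ← h, sub_self]
      exact (smul_eq_zero.1 h').resolve_left (sub_ne_zero.2 (Ne.symm hne1))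
    obtain ⟨u, hu⟩ := hloc d (by rw [hd1]; exact one_ne_zero)
    set E := e j with hE
    set w : R := ((u⁻¹ : Rˣ) : R) with hw
    have hwd : w * d = 1 := by rw [hw, ← hu]; exact u.inv_mul
    set Y' := Y - w • (Y * E * Y) with hY'
    have hEY' : E * Y' = 0 := by
      rw [hY', mul_sub, mul_smul_comm, show E * (Y * E * Y) = E * Y * E * Y from by noncomm_ring, hd',
        smul_mul_assoc, smul_smul, hwd, one_smul, sub_self]
    have hY'E : Y' * E = 0 := by
      rw [hY', sub_mul, smul_mul_assoc, show Y * E * Y * E = Y * (E * Y * E) from by noncomm_ring, hd',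
        mul_smul_comm, smul_smul, hwd, one_smul, sub_self]
    refine ⟨Y', Function.update c j d, J.sub_mem hYJ (J.smul_mem _ (hU Y hYJ E (heJ j))), ?_, ?_, ?_⟩
    · intro i hi
      rcases Nat.lt_succ_iff_lt_or_eq.1 hi with hi | hi
      · obtain ⟨h1, h2, h3⟩ := hY i hi
        refine ⟨?_, ?_, ?_⟩
        · rw [hY', mul_sub, mul_smul_comm, ← mul_assoc, ← mul_assoc, h1]; simp
        · rw [hY', sub_mul, smul_mul_assoc, mul_assoc, h2]; simp
        · rw [Function.update_of_ne (fun e' => by rw [e', hj] at hi; simp at hi)]; exact h3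
      · have : i = j := Fin.ext hi
        subst this
        exact ⟨hEY', hY'E, by rw [Function.update_self]; exact hd1⟩
    · have hw1 : ev w = 1 := by
        have := congrArg ev hwd
        rwa [map_mul, hd1, mul_one, map_one] at this
      have hYEY : (Y * E * Y).map ev = E.map ev := by
        rw [Matrix.map_mul, Matrix.map_mul, hYev, Finset.sum_mul, Finset.sum_eq_single_of_mem j
          (by simp [hj]) (fun i _ hi => by rw [← Matrix.map_mul, hne i j hi, Matrix.map_zero _ (map_zero ev)]),
          ← Matrix.map_mul, hee, Finset.mul_sum, Finset.sum_eq_single_of_mem j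
          (by simp [hj]) (fun i _ hi => by rw [← Matrix.map_mul, hne j i hi.symm, Matrix.map_zero _ (map_zero ev)]),
          ← Matrix.map_mul, hee]
      rw [hY', Matrix.map_sub ev (map_sub ev), Matrix.map_smul' ev w _ (map_mul ev), hw1, one_smul,
        hYEY, hYev, sub_eq_iff_eq_add]
      have hins : Finset.univ.filter (fun i : Fin m => k ≤ i.val) =
          insert j (Finset.univ.filter (fun i : Fin m => k + 1 ≤ i.val)) := by
        ext i; simp [hj, Fin.ext_iff]; omega
      rw [hins, Finset.sum_insert (by simp [hj]), add_comm]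
    · have hins : Finset.univ.filter (fun i : Fin m => i.val < k + 1) =
          insert j (Finset.univ.filter (fun i : Fin m => i.val < k)) := by
        ext i; simp [hj, Fin.ext_iff]; omega
      rw [hins, Finset.sum_insert (by simp [hj]), Function.update_self, Finset.sum_congr rfl
        (fun i hi => by rw [Function.update_of_ne (fun e' => by simp [e', hj] at hi)])]
      set Z := ∑ i ∈ Finset.univ.filter (fun i : Fin m => i.val < k), c i • e i with hZ
      have hEZ : E * Z = 0 := by
        rw [hZ, Finset.mul_sum]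
        exact Finset.sum_eq_zero fun i hi => by
          rw [mul_smul_comm, hne j i (fun e' => by simp [← e', hj] at hi), smul_zero]
      have hZE : Z * E = 0 := by
        rw [hZ, Finset.sum_mul]
        exact Finset.sum_eq_zero fun i hi => by
          rw [smul_mul_assoc, hne i j (fun e' => by simp [e', hj] at hi), smul_zero]
      set l := w • (Y * E - E * Y * E) with hl
      set r := w • (E * Y - E * Y * E) with hr
      have hEE : E * E = E := hee j
      have hEl : E * l = 0 := by
        rw [hl, mul_smul_comm, mul_sub, ← mul_assoc, ← mul_assoc, ← mul_assoc, hEE, sub_self, smul_zero]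
      have hlE : l * E = l := by
        rw [hl, smul_mul_assoc, sub_mul, mul_assoc Y, hEE, mul_assoc (E * Y), hEE]
      have hrE : r * E = 0 := by
        rw [hr, smul_mul_assoc, sub_mul, mul_assoc (E * Y) E E, hEE, sub_self, smul_zero]
      have hEr : E * r = r := by
        rw [hr, mul_smul_comm, mul_sub, ← mul_assoc, ← mul_assoc, ← mul_assoc, hEE]
      have hll : l * l = 0 := by rw [← hlE, mul_assoc, ← mul_assoc E, hEl, zero_mul, mul_zero]
      have hrr : r * r = 0 := by rw [← hEr, mul_assoc, ← mul_assoc r, hrE, zero_mul, mul_zero]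
      have hkey : (1 + l) * (Y' + (d • E + Z)) * (1 + r) = Y + Z := by
        have hlY : l * Y' = 0 := by rw [← hlE, mul_assoc, hEY', mul_zero]
        have hlZ : l * Z = 0 := by rw [← hlE, mul_assoc, hEZ, mul_zero]
        have hYr : Y' * r = 0 := by rw [← hEr, ← mul_assoc, hY'E, zero_mul]
        have hZr : Z * r = 0 := by rw [← hEr, ← mul_assoc, hZE, zero_mul]
        have hdl : d • l = Y * E - E * Y * E := by
          rw [hl, smul_smul, mul_comm, hwd, one_smul]
        have hdr : d • r = E * Y - E * Y * E := by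
          rw [hr, smul_smul, mul_comm, hwd, one_smul]
        have h1 : (1 + l) * (Y' + (d • E + Z)) = Y' + Z + (d • E + d • l) := by
          rw [add_mul, one_mul, mul_add, mul_add, hlY, hlZ, mul_smul_comm, hlE]
          abel
        have hlr : d • (l * r) = w • (Y * E * Y) - E * Y - (Y * E - E * Y * E) := by
          rw [← smul_mul_assoc, hdl, hr, mul_smul_comm,
            show (Y * E - E * Y * E) * (E * Y - E * Y * E) =
              Y * (E * E) * Y - Y * (E * E) * Y * E - E * Y * (E * E) * Y + E * Y * (E * E) * Y * E from by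
              noncomm_ring, hEE,
            show Y * E * Y * E = Y * (E * Y * E) from by noncomm_ring, hd', smul_add, smul_sub, smul_sub,
            mul_smul_comm, smul_mul_assoc]
          simp only [smul_mul_assoc, smul_smul, ← mul_assoc w d d, hwd, one_mul, one_smul, hd']
          abel
        rw [h1, mul_add, mul_one, add_mul, add_mul, add_mul, hYr, hZr, smul_mul_assoc, smul_mul_assoc,
          hEr, zero_add, zero_add, hlr, hdl, hdr, hY', ← hd']
        abel
      rw [hd, ← hkey, Matrix.det_mul, Matrix.det_mul, det_one_add hll, det_one_add hrr, one_mul, mul_one]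

end Pivots

section Roots

open Polynomial

variable {a : Matrix (Fin n) (Fin n) (ZMod 2)}

local notation "L2" => AlgebraicClosure (ZMod 2)

noncomputable local instance : DecidableEq (AlgebraicClosure (ZMod 2)) := Classical.decEq _

theorem aeval_mem (hS : IsJordanDivision S) (ha : a ∈ S) (p : (ZMod 2)[X]) : aeval a p ∈ S := by
  rw [aeval_eq_sum_range]
  exact S.sum_mem fun i _ => S.smul_mem _ (hS.pow_mem ha i)

theorem irreducible_minpoly [Nonempty (Fin n)] (hS : IsJordanDivision S) (ha : a ∈ S) :
    Irreducible (minpoly (ZMod 2) a) := by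
  have hint : IsIntegral (ZMod 2) a := Algebra.IsIntegral.isIntegral a
  refine ⟨minpoly.not_isUnit _ a, fun p q hpq => ?_⟩
  have h0 : aeval a p * aeval a q = 0 := by rw [← map_mul, ← hpq, minpoly.aeval]
  have hne := minpoly.ne_zero hint
  rw [hpq] at hne
  have key : ∀ u v : (ZMod 2)[X], minpoly (ZMod 2) a = u * v → aeval a v = 0 → IsUnit u := by
    intro u v huv hv
    obtain ⟨w, hw⟩ := minpoly.dvd _ a hv
    have hne' := minpoly.ne_zero hint
    refine .of_mul_eq_one w ?_
    have h : minpoly (ZMod 2) a * (u * w) = minpoly (ZMod 2) a * 1 := by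
      rw [mul_one]
      conv_rhs => rw [huv, hw]
      ring
    exact mul_left_cancel₀ hne' h
  by_cases hp : aeval a p = 0
  · exact Or.inr (key q p (by rw [hpq, mul_comm]) hp)
  · exact Or.inl (key p q hpq ((hS.isUnit _ (aeval_mem hS ha p) hp).mul_right_eq_zero.1 h0))

/-- The base change of a matrix to the algebraic closure. -/
noncomputable def big (a : Matrix (Fin n) (Fin n) (ZMod 2)) : Matrix (Fin n) (Fin n) L2 := liftMat _ a

theorem aeval_eq_of_eval {hμ : (minpoly (ZMod 2) a).Separable} {g h : L2[X]}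
    (H : ∀ x ∈ ((minpoly (ZMod 2) a).aroots L2).toFinset, g.eval x = h.eval x) :
    aeval (big a) g = aeval (big a) h := by
  classical
  set μ := (minpoly (ZMod 2) a).map (algebraMap (ZMod 2) L2) with hμ'
  have hroot : aeval (big a) μ = 0 := by
    rw [hμ', aeval_map_algebraMap, big, aeval_algHom_apply, minpoly.aeval, map_zero]
  have hmon : μ.Monic := (minpoly.monic (Algebra.IsIntegral.isIntegral a)).map _
  have hz : (g - h) %ₘ μ = 0 := by
    refine Polynomial.eq_zero_of_degree_lt_of_eval_finset_eq_zero μ.roots.toFinset ?_ fun x hx => ?_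
    · refine (degree_modByMonic_lt _ hmon).trans_le ?_
      rw [Multiset.toFinset_card_of_nodup (nodup_roots (hμ.map)),
        IsAlgClosed.card_roots_eq_natDegree, degree_eq_natDegree hmon.ne_zero]
    · have hxr : μ.eval x = 0 := (mem_roots hmon.ne_zero).1 (Multiset.mem_toFinset.1 hx)
      have := congrArg (eval x) (modByMonic_add_div (g - h) μ)
      rw [eval_add, eval_mul, hxr, zero_mul, add_zero] at this
      rw [this, eval_sub, H x (by rwa [aroots_def]), sub_self]
  have := congrArg (aeval (big a)) (modByMonic_add_div (g - h) μ)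
  rw [map_add, map_mul, hroot, zero_mul, add_zero, hz, map_zero, map_sub] at this
  exact sub_eq_zero.1 this.symm

/-- The idempotent belonging to a root. -/
noncomputable def idem (a : Matrix (Fin n) (Fin n) (ZMod 2)) (x : L2) : Matrix (Fin n) (Fin n) L2 :=
  aeval (big a) (Lagrange.basis ((minpoly (ZMod 2) a).aroots L2).toFinset id x)

variable (hμ : (minpoly (ZMod 2) a).Separable)
include hμ

theorem idem_mul {x y : L2} (hx : x ∈ ((minpoly (ZMod 2) a).aroots L2).toFinset)
    (hy : y ∈ ((minpoly (ZMod 2) a).aroots L2).toFinset) :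
    idem a x * idem a y = if x = y then idem a x else 0 := by
  classical
  split_ifs with hxy
  · subst hxy
    rw [idem, ← map_mul]
    refine aeval_eq_of_eval (hμ := hμ) fun z hz => ?_
    rw [eval_mul]
    by_cases hzx : x = z
    · subst hzx
      have h := Lagrange.eval_basis_self (v := (id : L2 → L2)) (Set.injOn_id _) hx
      simp only [id] at h
      rw [h, one_mul]
    · have h := Lagrange.eval_basis_of_ne (v := (id : L2 → L2)) hzx hz
      simp only [id] at h
      rw [h, mul_zero]
  · rw [idem, idem, ← map_mul, ← map_zero (aeval (R := L2) (big a))]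
    refine aeval_eq_of_eval (hμ := hμ) fun z hz => ?_
    rw [eval_mul, eval_zero]
    by_cases hzx : x = z
    · subst hzx
      have h := Lagrange.eval_basis_of_ne (v := (id : L2 → L2)) (Ne.symm hxy) hz
      simp only [id] at h
      rw [h, mul_zero]
    · have h := Lagrange.eval_basis_of_ne (v := (id : L2 → L2)) hzx hz
      simp only [id] at h
      rw [h, zero_mul]

theorem sum_idem : ∑ x ∈ ((minpoly (ZMod 2) a).aroots L2).toFinset, idem a x = 1 := by
  classical
  unfold idem
  rw [← map_sum, ← map_one (aeval (R := L2) (big a))]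
  refine aeval_eq_of_eval (hμ := hμ) fun z hz => ?_
  rw [Lagrange.sum_basis (Set.injOn_id _) ⟨z, hz⟩]

theorem big_mul_idem {x : L2} (hx : x ∈ ((minpoly (ZMod 2) a).aroots L2).toFinset) :
    big a * idem a x = x • idem a x := by
  classical
  have h1 : big a * idem a x = aeval (big a) (Polynomial.X * Lagrange.basis ((minpoly (ZMod 2) a).aroots L2).toFinset id x) := by
    rw [map_mul, aeval_X, idem]
  have h2 : x • idem a x = aeval (big a) (Polynomial.C x * Lagrange.basis ((minpoly (ZMod 2) a).aroots L2).toFinset id x) := by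
    rw [map_mul, aeval_C, idem, Algebra.smul_def]
  rw [h1, h2]
  refine aeval_eq_of_eval (hμ := hμ) fun z hz => ?_
  rw [eval_mul, eval_mul, eval_X, eval_C]
  by_cases hzx : x = z
  · rw [hzx]
  · have h := Lagrange.eval_basis_of_ne (v := (id : L2 → L2)) hzx hz
    simp only [id] at h
    rw [h, mul_zero, mul_zero]

theorem exists_galois {x y : L2} (hx : x ∈ ((minpoly (ZMod 2) a).aroots L2).toFinset)
    (hy : y ∈ ((minpoly (ZMod 2) a).aroots L2).toFinset) (hirr : Irreducible (minpoly (ZMod 2) a)) :
    ∃ τ : L2 ≃ₐ[ZMod 2] L2, (idem a x).map τ = idem a y := by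
  classical
  have hm := minpoly.monic (Algebra.IsIntegral.isIntegral (R := ZMod 2) a)
  have hmin : ∀ z ∈ ((minpoly (ZMod 2) a).aroots L2).toFinset,
      minpoly (ZMod 2) z = minpoly (ZMod 2) a := fun z hz =>
    (minpoly.eq_of_irreducible_of_monic hirr (mem_aroots.1 (Multiset.mem_toFinset.1 hz)).2 hm).symm
  obtain ⟨τ, hτ⟩ := MulAction.mem_orbit_iff.1
    ((Normal.minpoly_eq_iff_mem_orbit L2).1 ((hmin y hy).trans (hmin x hx).symm))
  refine ⟨τ, ?_⟩
  have hτ' : τ x = y := hτ
  have hbig : (big a).map τ = big a := by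
    ext i j
    simp [big, liftMat]
  have hmap : ∀ g : L2[X], (aeval (big a) g).map τ = aeval (big a) (g.map (τ : L2 →+* L2)) := by
    intro g
    induction g using Polynomial.induction_on' with
    | add g h hg hh => rw [map_add, Polynomial.map_add, map_add, Matrix.map_add _ (map_add τ), hg, hh]
    | monomial k c =>
      rw [aeval_monomial, map_monomial, aeval_monomial, ← Algebra.smul_def, ← Algebra.smul_def,
        Matrix.map_smul' (τ : L2 → L2) c _ (map_mul τ)]
      congr 1
      have := map_pow (τ : L2 →+* L2).mapMatrix (big a) k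
      exact this.trans (by congr 1)
  rw [idem, hmap, idem]
  refine aeval_eq_of_eval (hμ := hμ) fun z hz => ?_
  have hpre : τ.symm z ∈ ((minpoly (ZMod 2) a).aroots L2).toFinset := by
    rw [Multiset.mem_toFinset, mem_aroots] at hz ⊢
    exact ⟨hz.1, by rw [aeval_algHom_apply, hz.2, map_zero]⟩
  conv_lhs => rw [show z = (τ : L2 →+* L2) (τ.symm z) from (τ.apply_symm_apply z).symm, eval_map_apply]
  by_cases hzy : y = z
  · subst hzy
    have h1 := Lagrange.eval_basis_self (v := (id : L2 → L2)) (Set.injOn_id _) hx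
    have h2 := Lagrange.eval_basis_self (v := (id : L2 → L2)) (Set.injOn_id _) hy
    simp only [id] at h1 h2
    rw [← hτ', τ.symm_apply_apply, h1, hτ', h2, map_one]
  · have hxz : x ≠ τ.symm z := fun e => hzy (by rw [← hτ', e, τ.apply_symm_apply])
    have h1 := Lagrange.eval_basis_of_ne (v := (id : L2 → L2)) hxz hpre
    have h2 := Lagrange.eval_basis_of_ne (v := (id : L2 → L2)) hzy hz
    simp only [id] at h1 h2
    rw [h1, h2, map_zero]

/-- The common multiplicity of the roots. -/
theorem exists_multiplicity [Nonempty (Fin n)] (hirr : Irreducible (minpoly (ZMod 2) a)) :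
    ∃ r : ℕ, 0 < r ∧ (∀ x ∈ ((minpoly (ZMod 2) a).aroots L2).toFinset, idem a x ≠ 0) ∧
      ∀ x ∈ ((minpoly (ZMod 2) a).aroots L2).toFinset,
        ((Polynomial.X : L2[X]) • (idem a x).map Polynomial.C + (1 - (idem a x).map Polynomial.C)).det =
          Polynomial.X ^ r := by
  classical
  set Λ := ((minpoly (ZMod 2) a).aroots L2).toFinset with hΛ
  have hne : ∀ x ∈ Λ, idem a x ≠ 0 := by
    intro x hx h0
    have h := sum_idem (a := a) hμ
    rw [Finset.sum_eq_zero fun y hy => ?_] at h
    · exact zero_ne_one h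
    · obtain ⟨τ, hτ⟩ := exists_galois hμ hx hy hirr
      rw [← hτ, h0, Matrix.map_zero _ (map_zero τ)]
  obtain ⟨x₀, hx₀⟩ : Λ.Nonempty := by
    by_contra h
    rw [Finset.not_nonempty_iff_eq_empty] at h
    have := sum_idem (a := a) hμ
    rw [← hΛ, h, Finset.sum_empty] at this
    exact zero_ne_one this
  set P : L2 → L2[X] := fun x =>
    ((Polynomial.X : L2[X]) • (idem a x).map Polynomial.C + (1 - (idem a x).map Polynomial.C)).det with hP
  have hPeval : ∀ x s, (P x).eval s = (s • idem a x + (1 - idem a x)).det := by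
    intro x s
    simp only [hP]
    show Polynomial.evalRingHom s _ = _
    rw [RingHom.map_det]
    congr 1
    ext i j
    simp [Matrix.one_apply, apply_ite (Polynomial.eval s)]
    ring
  have hroot0 : ∀ x ∈ Λ, (P x).eval 0 = 0 := by
    intro x hx
    rw [hPeval, zero_smul, zero_add]
    by_contra hd
    have hu : IsUnit (1 - idem a x) := (Matrix.isUnit_iff_isUnit_det _).2 (Ne.isUnit hd)
    have hz : idem a x * (1 - idem a x) = 0 := by
      rw [mul_sub, mul_one, idem_mul hμ hx hx, if_pos rfl, sub_self]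
    exact hne x hx (hu.mul_left_eq_zero.1 hz)
  have hone : ∀ x, (P x).eval 1 = 1 := fun x => by rw [hPeval, one_smul, add_sub_cancel, Matrix.det_one]
  have hroots : ∀ x ∈ Λ, ∀ s : L2, s ≠ 0 → (P x).eval s ≠ 0 := by
    intro x hx s hs
    rw [hPeval]
    refine ((Matrix.isUnit_iff_isUnit_det _).1 (.of_mul_eq_one (s⁻¹ • idem a x + (1 - idem a x)) ?_)).ne_zero
    have he := (idem_mul hμ hx hx).trans (if_pos rfl)
    simp only [add_mul, mul_add, smul_mul_assoc, mul_smul_comm, mul_sub, sub_mul, one_mul, mul_one, he,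
      sub_self, smul_zero, add_zero, zero_add, sub_zero, smul_smul, inv_mul_cancel₀ hs,
      mul_inv_cancel₀ hs, one_smul]
    abel
  set r := (P x₀).natDegree with hr
  have hX : P x₀ = Polynomial.X ^ r := by
    have hne0 : P x₀ ≠ 0 := fun h => by simpa [h] using hone x₀
    have hall : ∀ s ∈ (P x₀).roots, s = 0 := fun s hs => by
      by_contra h
      exact hroots x₀ hx₀ s h ((mem_roots hne0).1 hs)
    have h := (IsAlgClosed.splits (P x₀)).eq_prod_roots
    rw [Multiset.eq_replicate_card.2 hall, Multiset.map_replicate, Multiset.prod_replicate, map_zero,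
      sub_zero, IsAlgClosed.card_roots_eq_natDegree, ← hr] at h
    have h1 := hone x₀
    rw [h, eval_mul, eval_C, eval_pow, eval_X, one_pow, mul_one] at h1
    rw [h, h1, map_one, one_mul]
  refine ⟨r, ?_, hne, fun x hx => ?_⟩
  · rcases Nat.eq_zero_or_pos r with h | h
    · have h1 := hroot0 x₀ hx₀
      rw [hX, h, pow_zero, eval_one] at h1
      exact absurd h1 one_ne_zero
    · exact h
  · obtain ⟨τ, hτ⟩ := exists_galois hμ hx₀ hx hirr
    have : P x = (P x₀).map (τ : L2 →+* L2) := by
      simp only [hP, ← hτ]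
      show _ = Polynomial.mapRingHom _ _
      rw [RingHom.map_det]
      congr 1
      ext i j
      simp [Matrix.one_apply, apply_ite (Polynomial.map (τ : L2 →+* L2))]
    show P x = _
    rw [this, hX, Polynomial.map_pow, Polynomial.map_X]

end Roots

theorem totalDegree_pow_eq {σ R : Type*} [CommRing R] [IsDomain R] {f : MvPolynomial σ R} (hf : f ≠ 0)
    (r : ℕ) : (f ^ r).totalDegree = r * f.totalDegree := by
  induction r with
  | zero => simp
  | succ r ih => rw [pow_succ, MvPolynomial.totalDegree_mul_of_isDomain (pow_ne_zero _ hf) hf, ih, Nat.succ_mul]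

local notation "L2" => AlgebraicClosure (ZMod 2)

noncomputable local instance decEqClosure : DecidableEq (AlgebraicClosure (ZMod 2)) := Classical.decEq _

theorem not_proper_aux [Nonempty (Fin n)] (hS : IsJordanDivision S) {a : Matrix (Fin n) (Fin n) (ZMod 2)}
    (ha : a ∈ S) (hcent : ∀ b ∈ S, a * b = b * a → b ∈ Algebra.adjoin (ZMod 2) ({a} : Set (Matrix (Fin n) (Fin n) (ZMod 2))))
    {d : ℕ} (sb : Module.Basis (Fin d) (ZMod 2) ↥S)
    (hmd : (((minpoly (ZMod 2) a).aroots L2).toFinset).card < d)
    (pt : Fin d → L2) (hpt : pt = fun i => algebraMap (ZMod 2) L2 (sb.repr ⟨1, hS.one_mem⟩ i))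
    (Q : Ideal (MvPolynomial (Fin d) L2)) [Q.IsPrime] (hQ : Q = RingHom.ker (MvPolynomial.eval pt))
    (O : Type) [CommRing O] [IsDomain O] [Algebra (ZMod 2) O] [Algebra (MvPolynomial (Fin d) L2) O]
    [IsLocalization.AtPrime O Q] : False := by
  classical
  have hirr := irreducible_minpoly hS ha
  have hμ : (minpoly (ZMod 2) a).Separable := PerfectField.separable_of_irreducible hirr
  set Λ := ((minpoly (ZMod 2) a).aroots L2).toFinset with hΛ
  obtain ⟨r, hr, hne, hP⟩ := exists_multiplicity hμ hirr
  set m := Λ.card with hm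
  let ε : Fin m ≃ ↥Λ := Λ.equivFin.symm
  have hunit : ∀ y : Q.primeCompl, IsUnit (MvPolynomial.eval pt (y : MvPolynomial (Fin d) L2)) :=
    fun y => Ne.isUnit fun h => y.2 (hQ.ge (RingHom.mem_ker.2 h))
  let ev : O →+* L2 := IsLocalization.lift hunit
  have hev : ∀ g : MvPolynomial (Fin d) L2, ev (algebraMap _ O g) = MvPolynomial.eval pt g :=
    fun g => IsLocalization.lift_eq hunit g
  have hloc : ∀ c : O, ev c ≠ 0 → IsUnit c := by
    intro c hc
    obtain ⟨⟨g, s⟩, hgs⟩ := IsLocalization.surj Q.primeCompl c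
    have hs : IsUnit (algebraMap (MvPolynomial (Fin d) L2) O s) := IsLocalization.map_units O s
    have hg : g ∈ Q.primeCompl := by
      intro hg
      replace hg := RingHom.mem_ker.1 (hQ.le hg)
      have h := congrArg ev hgs
      rw [map_mul, hev, hev, show MvPolynomial.eval pt g = 0 from hg] at h
      exact (mul_ne_zero hc (hunit s).ne_zero) h
    exact isUnit_of_mul_isUnit_left (hgs ▸ IsLocalization.map_units O ⟨g, hg⟩ :
      IsUnit (c * algebraMap (MvPolynomial (Fin d) L2) O s))
  let ι : L2 →+* O := (algebraMap (MvPolynomial (Fin d) L2) O).comp MvPolynomial.C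
  have hlift : ∀ x, liftMat O x = ((liftMat L2 x).map ι : Matrix (Fin n) (Fin n) O) := fun x => by
    ext i j
    simp only [liftMat, AlgHom.mapMatrix_apply, Matrix.map_apply]
    exact congrFun (congrArg DFunLike.coe
      (RingHom.ext_zmod (algebraMap (ZMod 2) O) (ι.comp (algebraMap (ZMod 2) L2)))) (x i j)
  have hevι : ∀ c, ev (ι c) = c := fun c => by
    show ev (algebraMap _ O (MvPolynomial.C c)) = c
    rw [hev, MvPolynomial.eval_C]
  let e : Fin m → Matrix (Fin n) (Fin n) O := fun i => (idem a (ε i).1).map ι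
  have hee : ∀ i, e i * e i = e i := fun i => by
    show (idem a _).map ι * (idem a _).map ι = _
    rw [← Matrix.map_mul, idem_mul hμ (ε i).2 (ε i).2, if_pos rfl]
  have hne' : ∀ i j, i ≠ j → e i * e j = 0 := fun i j hij => by
    show (idem a _).map ι * (idem a _).map ι = _
    rw [← Matrix.map_mul, idem_mul hμ (ε i).2 (ε j).2, if_neg (fun h => hij (ε.injective (Subtype.ext h))),
      Matrix.map_zero _ (map_zero ι)]
  have hsum : ∑ i, e i = 1 := by
    have h : ∑ i, idem a (ε i).1 = 1 := by
      rw [ε.sum_comp (fun x : ↥Λ => idem a x.1), Finset.sum_coe_sort Λ (idem a)]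
      exact sum_idem hμ
    have h' := congrArg ι.mapMatrix h
    rw [map_sum, map_one] at h'
    exact h'
  have hevne : ∀ i, (e i).map ev ≠ 0 := fun i => by
    rw [show (e i).map ev = idem a (ε i).1 from by ext k l; exact hevι _]
    exact hne _ (ε i).2
  have hpoly : ∀ g : Polynomial L2, (Polynomial.aeval (big a) g).map ι ∈ ext O S := by
    intro g
    induction g using Polynomial.induction_on' with
    | add g h hg hh => rw [map_add, Matrix.map_add _ (map_add ι)]; exact add_mem hg hh
    | monomial k c =>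
      rw [Polynomial.aeval_monomial, ← Algebra.smul_def, big, ← map_pow, Matrix.map_smul' ι c _ (map_mul ι),
        ← hlift]
      exact Submodule.smul_mem _ _ (lift_mem (hS.pow_mem ha k))
  have heJ : ∀ i, e i ∈ ext O S := fun i => hpoly _
  have hae : ∀ i, liftMat O a * e i = ι (ε i).1 • e i := fun i => by
    rw [hlift]
    show (big a).map ι * (idem a _).map ι = _
    rw [← Matrix.map_mul, big_mul_idem hμ (ε i).2, Matrix.map_smul' ι _ _ (map_mul ι)]
  have hea : ∀ i, e i * liftMat O a = ι (ε i).1 • e i := fun i => by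
    rw [hlift]
    show (idem a _).map ι * (big a).map ι = _
    rw [← Matrix.map_mul, show idem a (ε i).1 * big a = big a * idem a (ε i).1 from by
      have hX : big a = Polynomial.aeval (big a) (Polynomial.X : Polynomial L2) := (Polynomial.aeval_X _).symm
      unfold idem
      conv_lhs => arg 2; rw [hX]
      conv_rhs => arg 1; rw [hX]
      rw [← map_mul, ← map_mul, mul_comm], big_mul_idem hμ (ε i).2, Matrix.map_smul' ι _ _ (map_mul ι)]
  have hscal : ∀ x ∈ ext O S, ∀ i, ∃ c : O, e i * x * e i = c • e i := by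
    intro x hx i
    have hy : e i * x * e i ∈ ext O S := ext_u_mem hS (heJ i) hx
    have hcomm : liftMat O a * (e i * x * e i) = e i * x * e i * liftMat O a := by
      rw [mul_assoc (e i * x) (e i), hea, mul_smul_comm, ← mul_assoc, ← mul_assoc, hae, smul_mul_assoc,
        smul_mul_assoc]
    have hy' := ext_commute hy hcomm
    have key : ∀ z ∈ ext O (S ⊓ Submodule.comap
        (LinearMap.mulLeft (ZMod 2) a - LinearMap.mulRight (ZMod 2) a) ⊥), ∃ c : O, z * e i = c • e i := by
      intro z hz
      induction hz using Submodule.span_induction with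
      | zero => exact ⟨0, by simp⟩
      | add u v _ _ hu hv =>
        obtain ⟨c, hc⟩ := hu
        obtain ⟨c', hc'⟩ := hv
        exact ⟨c + c', by rw [add_mul, hc, hc', add_smul]⟩
      | smul c u _ hu =>
        obtain ⟨c', hc'⟩ := hu
        exact ⟨c * c', by rw [smul_mul_assoc, hc', smul_smul]⟩
      | mem u hu =>
        obtain ⟨u, ⟨huS, huc⟩, rfl⟩ := hu
        have hua : a * u = u * a := sub_eq_zero.1 (by simpa using huc)
        obtain ⟨q, rfl⟩ := (Algebra.adjoin_singleton_eq_range_aeval (ZMod 2) a).le (hcent u huS hua)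
        clear huS huc hua
        induction q using Polynomial.induction_on with
        | C c => exact ⟨algebraMap _ O c, by
            rw [AlgHom.toRingHom_eq_coe, RingHom.coe_coe, Polynomial.aeval_C, AlgHom.commutes,
              IsScalarTower.algebraMap_apply (ZMod 2) O, ← Algebra.smul_def]⟩
        | add g h hg hh =>
          obtain ⟨c, hc⟩ := hg
          obtain ⟨c', hc'⟩ := hh
          simp only [AlgHom.toRingHom_eq_coe, RingHom.coe_coe] at hc hc' ⊢
          exact ⟨c + c', by rw [map_add, map_add, add_mul, hc, hc', add_smul]⟩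
        | monomial k c hk =>
          obtain ⟨c', hc'⟩ := hk
          simp only [AlgHom.toRingHom_eq_coe, RingHom.coe_coe] at hc' ⊢
          exact ⟨ι (ε i).1 * c', by
            rw [pow_succ, ← mul_assoc, map_mul, map_mul, Polynomial.aeval_X, mul_assoc, hae, mul_smul_comm,
              hc', smul_smul]⟩
    obtain ⟨c, hc⟩ := key _ hy'
    exact ⟨c, by rw [← hc, mul_assoc (e i * x), hee]⟩
  -- the generic element
  let Xp : Matrix (Fin n) (Fin n) (MvPolynomial (Fin d) L2) :=
    Matrix.of fun k l => ∑ i, MvPolynomial.X i * MvPolynomial.C (algebraMap (ZMod 2) L2 ((sb i).1 k l))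
  let X : Matrix (Fin n) (Fin n) O := Xp.map (algebraMap _ O)
  have hXJ : X ∈ ext O S := by
    have : X = ∑ i, algebraMap (MvPolynomial (Fin d) L2) O (MvPolynomial.X i) • liftMat O (sb i).1 := by
      ext k l
      simp only [hlift]
      simp only [X, Xp, Matrix.sum_apply, Matrix.smul_apply, Matrix.map_apply, Matrix.of_apply, map_sum,
        map_mul, liftMat, AlgHom.mapMatrix_apply, Algebra.ofId_apply, ι, RingHom.coe_comp,
        Function.comp_apply, smul_eq_mul]
    rw [this]
    exact Submodule.sum_mem _ fun i _ => Submodule.smul_mem _ _ (lift_mem (sb i).2)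
  have hX1 : X.map ev = 1 := by
    have hrepr : ∑ i, sb.repr ⟨1, hS.one_mem⟩ i • (sb i).1 = (1 : Matrix (Fin n) (Fin n) (ZMod 2)) := by
      have h := congrArg S.subtype (sb.sum_repr ⟨1, hS.one_mem⟩)
      simp only [map_sum, map_smul, Submodule.subtype_apply] at h
      exact h
    ext k l
    show ev (algebraMap _ O (Xp k l)) = _
    rw [hev]
    simp only [Xp, Matrix.of_apply, map_sum, map_mul, MvPolynomial.eval_X, MvPolynomial.eval_C, hpt]
    have h := congrArg (algebraMap (ZMod 2) L2) (congrFun (congrFun hrepr k) l)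
    simp only [Matrix.sum_apply, Matrix.smul_apply, smul_eq_mul, map_sum, map_mul, Matrix.one_apply,
      apply_ite (algebraMap (ZMod 2) L2), map_one, map_zero] at h
    rw [h, Matrix.one_apply]
  obtain ⟨c, hc1, hdet⟩ := pivots ev hloc (ext O S) (fun x hx y hy => ext_u_mem hS hx hy) e heJ hee hne'
    hsum hevne hscal hXJ hX1
  -- determinants of diagonal elements
  have hdiag : ∀ (T : Type) [CommRing T] (f : L2 →+* T) (t : Fin m → T),
      (∑ i, t i • (idem a (ε i).1).map f).det = (∏ i, t i) ^ r := by
    intro T _ f t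
    let E : Fin m → Matrix (Fin n) (Fin n) T := fun i => (idem a (ε i).1).map f
    have h1 : ∀ i, (t i • E i + (1 - E i)).det = t i ^ r := by
      intro i
      have h := congrArg (Polynomial.eval₂RingHom f (t i)) (hP _ (ε i).2)
      rw [RingHom.map_det, map_pow] at h
      simp only [Polynomial.coe_eval₂RingHom, Polynomial.eval₂_X] at h
      rw [← h]
      congr 1
      ext k l
      simp [E, Matrix.one_apply, apply_ite (Polynomial.eval₂ f (t i))]
      ring
    have hE2 : ∀ i, E i * E i = E i := fun i => by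
      show (idem a _).map f * (idem a _).map f = _
      rw [← Matrix.map_mul, idem_mul hμ (ε i).2 (ε i).2, if_pos rfl]
    have hEne : ∀ i j, i ≠ j → E i * E j = 0 := fun i j hij => by
      show (idem a _).map f * (idem a _).map f = _
      rw [← Matrix.map_mul, idem_mul hμ (ε i).2 (ε j).2, if_neg (fun h => hij (ε.injective (Subtype.ext h))),
        Matrix.map_zero _ (map_zero f)]
    have hEsum : ∑ i, E i = 1 := by
      have h : ∑ i, idem a (ε i).1 = 1 := by
        rw [ε.sum_comp (fun x : ↥Λ => idem a x.1), Finset.sum_coe_sort Λ (idem a)]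
        exact sum_idem hμ
      have h' := congrArg f.mapMatrix h
      rw [map_sum, map_one] at h'
      exact h'
    have h2 : ∀ s : Finset (Fin m), (1 + ∑ i ∈ s, (t i - 1) • E i).det = (∏ i ∈ s, t i) ^ r := by
      intro s
      induction s using Finset.induction_on with
      | empty => simp
      | @insert j s hj ih =>
        have hmul : (1 + (t j - 1) • E j) * (1 + ∑ i ∈ s, (t i - 1) • E i) =
            1 + ∑ i ∈ insert j s, (t i - 1) • E i := by
          rw [Finset.sum_insert hj, mul_add, mul_one, add_mul, one_mul, Finset.mul_sum, Finset.sum_congr rfl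
            (fun i hi => show (t j - 1) • E j * ((t i - 1) • E i) = 0 by
              rw [smul_mul_assoc, mul_smul_comm, hEne j i (fun h => hj (h ▸ hi)), smul_zero, smul_zero]),
            Finset.sum_const_zero, add_zero, add_assoc]
        rw [← hmul, Matrix.det_mul, ih, Finset.prod_insert hj, mul_pow,
          show 1 + (t j - 1) • E j = t j • E j + (1 - E j) from by rw [sub_smul, one_smul]; abel, h1]
    have h3 : (1 : Matrix (Fin n) (Fin n) T) + ∑ i, (t i - 1) • E i = ∑ i, t i • E i := by
      simp only [sub_smul, one_smul, Finset.sum_sub_distrib, hEsum]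
      abel
    rw [← h2 Finset.univ, h3]
  have hnm : n = m * r := by
    have h := hdiag (Polynomial L2) Polynomial.C fun _ => Polynomial.X
    rw [← Finset.smul_sum, Matrix.det_smul, Finset.prod_const, Finset.card_univ, Fintype.card_fin,
      Fintype.card_fin] at h
    have h' : (∑ i, (idem a (ε i).1).map (Polynomial.C : L2 →+* Polynomial L2)) = 1 := by
      have hh : ∑ i, idem a (ε i).1 = 1 := by
        rw [ε.sum_comp (fun x : ↥Λ => idem a x.1), Finset.sum_coe_sort Λ (idem a)]
        exact sum_idem hμ
      have h'' := congrArg (Polynomial.C : L2 →+* Polynomial L2).mapMatrix hh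
      rw [map_sum, map_one] at h''
      exact h''
    rw [h', Matrix.det_one, mul_one, ← pow_mul] at h
    simpa [mul_comm m r] using congrArg Polynomial.natDegree h
  -- the root of the generic determinant
  let N₀ : O := ∏ i, c i
  have hN₀ : N₀ ^ r = algebraMap _ O Xp.det := by
    rw [RingHom.map_det]
    exact ((hdiag O ι c).symm.trans hdet.symm)
  let F := FractionRing (MvPolynomial (Fin d) L2)
  have hunitF : ∀ y : Q.primeCompl, IsUnit (algebraMap (MvPolynomial (Fin d) L2) F (y : MvPolynomial (Fin d) L2)) :=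
    fun y => IsLocalization.map_units F (⟨y.1, Q.primeCompl_le_nonZeroDivisors y.2⟩ : nonZeroDivisors _)
  let φ : O →+* F := IsLocalization.lift hunitF
  have hφ : ∀ g, φ (algebraMap _ O g) = algebraMap _ F g := fun g => IsLocalization.lift_eq hunitF g
  have hφinj : Function.Injective φ := (IsLocalization.lift_injective_iff hunitF).2 fun x y =>
    ⟨fun h => by rw [IsLocalization.injective O Q.primeCompl_le_nonZeroDivisors h],
      fun h => by rw [IsFractionRing.injective (MvPolynomial (Fin d) L2) F h]⟩
  have hint : IsIntegral (MvPolynomial (Fin d) L2) (φ N₀ ^ r) := by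
    rw [← map_pow, hN₀, hφ]; exact isIntegral_algebraMap
  obtain ⟨N, hN⟩ := IsIntegrallyClosed.exists_algebraMap_eq_of_isIntegral_pow hr hint
  have hNN₀ : algebraMap _ O N = N₀ := hφinj (by rw [hφ, hN])
  have hNr : N ^ r = Xp.det := IsFractionRing.injective (MvPolynomial (Fin d) L2) F (by
    rw [map_pow, hN, ← map_pow, hN₀, hφ])
  have hNpt : MvPolynomial.eval pt N = 1 := by
    rw [← hev, hNN₀, map_prod]; exact Finset.prod_eq_one fun i _ => hc1 i
  have hN0 : N ≠ 0 := fun h => by rw [h, map_zero] at hNpt; exact zero_ne_one hNpt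
  -- the coefficients lie in the prime field
  let σ : L2 →+* L2 := frobenius L2 2
  have hσfix : ∀ x : ZMod 2, σ (algebraMap (ZMod 2) L2 x) = algebraMap (ZMod 2) L2 x := fun x => by
    show algebraMap (ZMod 2) L2 x ^ 2 = _
    rw [← map_pow, ZMod.pow_card]
  have hσdet : MvPolynomial.map σ Xp.det = Xp.det := by
    rw [RingHom.map_det]
    congr 1
    ext1 k l
    simp [Xp, hσfix]
  have hzr : (algebraMap _ F (MvPolynomial.map σ N) / algebraMap _ F N : F) ^ r = 1 := by
    rw [div_pow, ← map_pow, ← map_pow, ← map_pow, hNr, hσdet, ← hNr, map_pow,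
      div_self (pow_ne_zero _ fun h => hN0 (IsFractionRing.injective (MvPolynomial (Fin d) L2) F
        (by rw [h, map_zero])))]
  obtain ⟨q, hq⟩ := IsIntegrallyClosed.exists_algebraMap_eq_of_isIntegral_pow
    (R := MvPolynomial (Fin d) L2) hr (hzr ▸ isIntegral_one :
      IsIntegral (MvPolynomial (Fin d) L2)
        ((algebraMap _ F (MvPolynomial.map σ N) / algebraMap _ F N : F) ^ r))
  have hqr : q ^ r = 1 := IsFractionRing.injective (MvPolynomial (Fin d) L2) F (by
    rw [map_pow, hq, hzr, map_one])
  have hq0 : q ≠ 0 := fun h => by rw [h, zero_pow hr.ne'] at hqr; exact zero_ne_one hqr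
  obtain ⟨ζ, hζ⟩ : ∃ ζ, q = MvPolynomial.C ζ := by
    refine ⟨q.coeff 0, MvPolynomial.totalDegree_eq_zero_iff_eq_C.1 ?_⟩
    have h := totalDegree_pow_eq hq0 r
    rw [hqr, MvPolynomial.totalDegree_one] at h
    rcases Nat.mul_eq_zero.1 h.symm with h' | h'
    · omega
    · exact h'
  have hσN : MvPolynomial.map σ N = MvPolynomial.C ζ * N := IsFractionRing.injective (MvPolynomial (Fin d) L2) F (by
    rw [map_mul, ← hζ, hq, div_mul_cancel₀ _ fun h => hN0 (IsFractionRing.injective (MvPolynomial (Fin d) L2) F
        (by rw [h, map_zero]))])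
  have hζ1 : ζ = 1 := by
    have h := congrArg (MvPolynomial.eval pt) hσN
    rw [map_mul, MvPolynomial.eval_C, hNpt, mul_one] at h
    have h2 : MvPolynomial.eval (σ ∘ pt) (MvPolynomial.map σ N) = σ (MvPolynomial.eval pt N) := by
      rw [MvPolynomial.map_eval]
    rw [show (σ ∘ pt) = pt from funext fun i => by rw [Function.comp_apply, hpt]; exact hσfix _, hNpt, map_one, h] at h2
    exact h2
  rw [hζ1, MvPolynomial.C_1, one_mul] at hσN
  let N₁ : MvPolynomial (Fin d) (ZMod 2) := ∑ k ∈ N.support, MvPolynomial.monomial k 1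
  have hN₁ : MvPolynomial.map (algebraMap (ZMod 2) L2) N₁ = N := by
    conv_rhs => rw [N.as_sum]
    rw [map_sum]
    refine Finset.sum_congr rfl fun k hk => ?_
    rw [MvPolynomial.map_monomial, map_one]
    congr 1
    have h := congrArg (MvPolynomial.coeff k) hσN
    rw [MvPolynomial.coeff_map] at h
    have h' : N.coeff k ^ 2 = N.coeff k := h
    have hne0 := MvPolynomial.mem_support_iff.1 hk
    exact (mul_left_cancel₀ hne0 (by rw [← pow_two, h', mul_one])).symm
  -- the values
  have hval : ∀ v : Fin d → ZMod 2, MvPolynomial.eval v N₁ = if v = 0 then 0 else 1 := by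
    intro v
    have h2 : (MvPolynomial.eval v N₁) ^ r = (∑ i, v i • (sb i).1).det := by
      apply (algebraMap (ZMod 2) L2).injective
      rw [map_pow, MvPolynomial.map_eval, hN₁, ← map_pow, hNr, RingHom.map_det, RingHom.map_det]
      congr 1
      ext k l
      simp [Xp, Matrix.sum_apply]
    split_ifs with hv
    · rw [hv] at h2 ⊢
      simp only [Pi.zero_apply, zero_smul, Finset.sum_const_zero, Matrix.det_zero] at h2
      exact pow_eq_zero_iff hr.ne' |>.1 h2
    · have hu : IsUnit (∑ i, v i • (sb i).1) := by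
        refine hS.isUnit _ (S.sum_mem fun i _ => S.smul_mem _ (sb i).2) fun h0 => hv (funext fun i => ?_)
        have hz : (∑ i, v i • sb i) = 0 := Subtype.ext (by simpa using h0)
        exact Fintype.linearIndependent_iff.1 sb.linearIndependent v hz i
      have h3 := ((Matrix.isUnit_iff_isUnit_det _).1 hu).ne_zero
      rw [← h2] at h3
      have key : ∀ z : ZMod 2, z ≠ 0 → z = 1 := by decide
      exact key _ fun h => h3 (by rw [h, zero_pow hr.ne'])
  -- degree
  have hdeg : N₁.totalDegree ≤ m := by
    have h1 : Xp.det.totalDegree ≤ n := by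
      rw [Matrix.det_apply']
      refine MvPolynomial.totalDegree_finsetSum_le fun π _ => ?_
      refine (MvPolynomial.totalDegree_mul _ _).trans ?_
      have hs : ((Equiv.Perm.sign π : ℤ) : MvPolynomial (Fin d) L2).totalDegree = 0 := by
        rw [← map_intCast (MvPolynomial.C : L2 →+* MvPolynomial (Fin d) L2), MvPolynomial.totalDegree_C]
      rw [hs, zero_add]
      refine (MvPolynomial.totalDegree_finsetProd Finset.univ fun i => Xp (π i) i).trans
        ((Finset.sum_le_card_nsmul _ _ 1 fun i _ => ?_).trans (by simp))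
      simp only [Xp, Matrix.of_apply]
      refine MvPolynomial.totalDegree_finsetSum_le fun k _ => (MvPolynomial.totalDegree_mul _ _).trans ?_
      simp only [MvPolynomial.totalDegree_X, MvPolynomial.totalDegree_C, add_zero, le_refl]
    rw [← hNr, totalDegree_pow_eq hN0, hnm, mul_comm m r] at h1
    have h2 : N.totalDegree ≤ m := Nat.le_of_mul_le_mul_left h1 hr
    refine le_trans ?_ h2
    rw [← hN₁, MvPolynomial.totalDegree, MvPolynomial.totalDegree,
      MvPolynomial.support_map_of_injective _ (algebraMap (ZMod 2) L2).injective]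
  have hsum0 := MvPolynomial.sum_eval_eq_zero N₁ (by
    rw [ZMod.card, Fintype.card_fin]
    omega)
  rw [Finset.sum_congr rfl (fun v _ => hval v), Finset.sum_ite, Finset.sum_const_zero, zero_add,
    Finset.sum_const, Finset.filter_ne', Finset.card_erase_of_mem (Finset.mem_univ _), Finset.card_univ,
    Fintype.card_fun, ZMod.card, Fintype.card_fin, nsmul_eq_mul, mul_one] at hsum0
  have hev2 : ((2 ^ d - 1 : ℕ) : ZMod 2) = 1 := by
    rw [ZMod.natCast_eq_one_iff_odd]
    exact Nat.Even.sub_odd Nat.one_le_two_pow ((Nat.even_pow).2 ⟨even_two, by omega⟩) odd_one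
  rw [hev2] at hsum0
  exact one_ne_zero hsum0

/-- The core: no maximal field of a Jordan division space is proper. -/
theorem not_proper [Nonempty (Fin n)] (hS : IsJordanDivision S) {a : Matrix (Fin n) (Fin n) (ZMod 2)}
    (ha : a ∈ S) (hcent : ∀ b ∈ S, a * b = b * a → b ∈ Algebra.adjoin (ZMod 2) ({a} : Set (Matrix (Fin n) (Fin n) (ZMod 2))))
    {b₀ : Matrix (Fin n) (Fin n) (ZMod 2)} (hb₀ : b₀ ∈ S)
    (hb₀' : b₀ ∉ Algebra.adjoin (ZMod 2) ({a} : Set (Matrix (Fin n) (Fin n) (ZMod 2)))) : False := by
  classical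
  have hirr := irreducible_minpoly hS ha
  set Λ := ((minpoly (ZMod 2) a).aroots L2).toFinset with hΛ
  -- dimensions
  set m := Λ.card with hm
  set d := Module.finrank (ZMod 2) ↥S with hd
  have hmd : m < d := by
    have h1 : m ≤ (minpoly (ZMod 2) a).natDegree := by
      refine (Multiset.toFinset_card_le _).trans ?_
      rw [Polynomial.aroots_def, IsAlgClosed.card_roots_eq_natDegree, Polynomial.natDegree_map]
    set A := Subalgebra.toSubmodule (Algebra.adjoin (ZMod 2) ({a} : Set (Matrix (Fin n) (Fin n) (ZMod 2)))) with hA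
    have hAS : A ≤ S := by
      intro x hx
      obtain ⟨q, rfl⟩ := (Algebra.adjoin_singleton_eq_range_aeval (ZMod 2) a).le hx
      exact aeval_mem hS ha q
    have h2 : (minpoly (ZMod 2) a).natDegree ≤ Module.finrank (ZMod 2) ↥A := by
      let f : Fin (minpoly (ZMod 2) a).natDegree → ↥A := fun i =>
        ⟨a ^ (i : ℕ), pow_mem (Algebra.subset_adjoin (Set.mem_singleton a)) _⟩
      have hli : LinearIndependent (ZMod 2) f :=
        LinearIndependent.of_comp A.subtype (linearIndependent_pow a)
      simpa using hli.fintype_card_le_finrank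
    have h3 : A < S := lt_of_le_of_ne hAS fun h => hb₀' (by rw [← h] at hb₀; exact hb₀)
    exact (h1.trans h2).trans_lt (Submodule.finrank_lt_finrank_of_lt h3)
  let sb : Module.Basis (Fin d) (ZMod 2) ↥S := Module.finBasis (ZMod 2) ↥S
  let pt : Fin d → L2 := fun i => algebraMap (ZMod 2) L2 (sb.repr ⟨1, hS.one_mem⟩ i)
  haveI : (RingHom.ker (MvPolynomial.eval pt)).IsPrime := RingHom.ker_isPrime _
  haveI : IsDomain (Localization.AtPrime (RingHom.ker (MvPolynomial.eval pt))) :=
    IsLocalization.isDomain_of_le_nonZeroDivisors (R := MvPolynomial (Fin d) L2)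
      (S := Localization.AtPrime (RingHom.ker (MvPolynomial.eval pt)))
      (RingHom.ker (MvPolynomial.eval pt)).primeCompl_le_nonZeroDivisors
  exact not_proper_aux hS ha hcent sb hmd pt rfl _ rfl (Localization.AtPrime (RingHom.ker (MvPolynomial.eval pt)))

/-- A finite Jordan division space over the prime field with two elements is commutative. -/
theorem commute_of_isJordanDivision (hS : IsJordanDivision S) :
    ∀ x ∈ S, ∀ y ∈ S, x * y = y * x := by
  rcases Nat.eq_zero_or_pos n with hn | hn
  · subst hn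
    exact fun x _ y _ => Subsingleton.elim _ _
  haveI : Nonempty (Fin n) := ⟨⟨0, hn⟩⟩
  obtain ⟨a, ha, hcent⟩ := exists_generator hS
  intro x hx y hy
  have hmem : ∀ z ∈ S, z ∈ Algebra.adjoin (ZMod 2) ({a} : Set (Matrix (Fin n) (Fin n) (ZMod 2))) :=
    fun z hz => by
      by_contra h
      exact not_proper hS ha hcent hz h
  obtain ⟨p, rfl⟩ := (Algebra.adjoin_singleton_eq_range_aeval (ZMod 2) a).le (hmem x hx)
  obtain ⟨q, rfl⟩ := (Algebra.adjoin_singleton_eq_range_aeval (ZMod 2) a).le (hmem y hy)
  simp only [AlgHom.toRingHom_eq_coe, RingHom.coe_coe, ← map_mul, mul_comm]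

end Cfsg.Lib.JordanDivision
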